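import Mathlib
import Groth.Agent.Lib.Helper5.StalkTen.TildeStalk

/-!
# The counit of extension/restriction of scalars along a localization (helper5)
-/

set_option autoImplicit false
universe u
open CategoryTheory CategoryTheory.Limits AlgebraicGeometry TensorProduct

namespace Groth.Agent.Lib.Helper5.TorQC

section Ring

variable {R S : Type u} [CommRing R] [CommRing S] (f : R →+* S)

/-- an `R`-linear map between `S`-modules is `S`-linear when `R → S` is localization-like -/
theorem map_smul_of_loc (hf : ∀ s : S, ∃ r w : R, IsUnit (f w) ∧ s * f w = f r)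
    {N₁ N₂ : ModuleCat.{u} S}
    (g : (ModuleCat.restrictScalars f).obj N₁ ⟶ (ModuleCat.restrictScalars f).obj N₂)
    (s : S) (n : N₁) :
    (g.hom (show (ModuleCat.restrictScalars f).obj N₁ from s • n) : N₂) =
      s • (g.hom (show (ModuleCat.restrictScalars f).obj N₁ from n) : N₂) := by
  obtain ⟨r, w, hu, hs⟩ := hf s
  obtain ⟨u, hu'⟩ := hu
  have hR : ∀ (a : R) (m : N₁), (g.hom (show (ModuleCat.restrictScalars f).obj N₁ from f a • m) : N₂) =
      f a • (g.hom (show (ModuleCat.restrictScalars f).obj N₁ from m) : N₂) := by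
    intro a m
    exact g.hom.map_smul a (show (ModuleCat.restrictScalars f).obj N₁ from m)
  have h1 : (g.hom (show (ModuleCat.restrictScalars f).obj N₁ from (↑u⁻¹ : S) • n) : N₂) =
      (↑u⁻¹ : S) • (g.hom (show (ModuleCat.restrictScalars f).obj N₁ from n) : N₂) := by
    have h2 := hR w ((↑u⁻¹ : S) • n)
    rw [← mul_smul, ← hu', Units.mul_inv, one_smul] at h2
    rw [h2, ← mul_smul, Units.inv_mul, one_smul]
  have h3 : s • n = f r • ((↑u⁻¹ : S) • n) := by
    rw [← hs, ← mul_smul, mul_assoc, ← hu', Units.mul_inv, mul_one]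
  rw [h3, hR, h1, ← mul_smul, ← hs, mul_assoc, ← hu', Units.mul_inv, mul_one]

/-- restriction of scalars along a localization-like ring map is full -/
theorem full_restrictScalars_of_loc (hf : ∀ s : S, ∃ r w : R, IsUnit (f w) ∧ s * f w = f r) :
    (ModuleCat.restrictScalars.{u} f).Full where
  map_surjective {N₁ N₂} g := by
    refine ⟨ModuleCat.ofHom
      { toFun := fun n => (g.hom (show (ModuleCat.restrictScalars f).obj N₁ from n) : N₂)
        map_add' := fun a b => g.hom.map_add _ _
        map_smul' := fun s n => map_smul_of_loc f hf g s n }, ?_⟩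
    rfl

/-- the counit of extension/restriction of scalars along a localization is an isomorphism -/
theorem isIso_counit_of_loc (hf : ∀ s : S, ∃ r w : R, IsUnit (f w) ∧ s * f w = f r)
    (Y : ModuleCat.{u} S) : IsIso ((ModuleCat.extendRestrictScalarsAdj.{u} f).counit.app Y) := by
  haveI := full_restrictScalars_of_loc f hf
  haveI : IsIso (ModuleCat.extendRestrictScalarsAdj.{u} f).counit :=
    Adjunction.counit_isIso_of_R_fully_faithful _
  infer_instance

end Ring

section Phi

open Groth.Agent.Lib.Helper5.TildeStalk

variable (R : CommRingCat.{u}) (x : Spec (CommRingCat.of R))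

theorem phi_eq : phi R x = (StructureSheaf.toStalk R x).hom := by
  have h : eTop R = 𝟙 _ := Subsingleton.elim _ _
  unfold phi
  rw [h, CategoryTheory.Functor.map_id, Category.id_comp]
  rfl

/-- the map from `R` to a stalk of `Spec R` is a localization -/
theorem phi_loc (s : (Spec (CommRingCat.of R)).presheaf.stalk x) :
    ∃ r w : R, IsUnit (phi R x w) ∧ s * phi R x w = phi R x r := by
  rw [phi_eq]
  let p : PrimeSpectrum R := x
  obtain ⟨⟨r, w⟩, h⟩ := IsLocalization.surj (M := p.asIdeal.primeCompl)
    (S := (Spec.structureSheaf R).presheaf.stalk p) s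
  exact ⟨r, w, IsLocalization.map_units (M := p.asIdeal.primeCompl)
    ((Spec.structureSheaf R).presheaf.stalk p) w, h⟩

/-- every module over a stalk of `Spec R` is the stalk of the tilde of an `R`-module -/
noncomputable def stalkTildeRestrictIso
    (N : ModuleCat.{u} ((Spec (CommRingCat.of R)).presheaf.stalk x)) :
    (Groth.Agent.Lib.Helper5.StalkAdj.stalkSh (Spec (CommRingCat.of R)) x).obj
      ((tilde.functor R).obj ((ModuleCat.restrictScalars (phi R x)).obj N)) ≅ N :=
  haveI := isIso_counit_of_loc (phi R x) (phi_loc R x) N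
  (tildeStalkIso R x).app _ ≪≫
    asIso ((ModuleCat.extendRestrictScalarsAdj.{u} (phi R x)).counit.app N)

end Phi

end Groth.Agent.Lib.Helper5.TorQC
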