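import Mathlib
import Groth.Prelude.Def_DCoh4
import Groth.Agent.Lib.Helper5.TorQC.Counit
import Groth.Agent.Lib.Helper5.StalkTen.StalkTot
import Groth.Agent.Lib.Helper5.Stalk.Exact

/-!
# Stalks of `P ⊗ F`; testing tor amplitude on `Spec R` with quasi-coherent modules (helper5)
-/

set_option autoImplicit false
universe u
open CategoryTheory CategoryTheory.Limits AlgebraicGeometry MonoidalCategory

namespace Groth.Agent.Lib.Helper5.TorQC

open Groth.Agent.Lib.Helper5.StalkAdj Groth.Agent.Lib.Helper5.StalkTenS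
  Groth.Agent.Lib.Helper5.StalkTot Groth.Agent.Lib.Helper5.TildeStalk

variable {X : Scheme.{u}}

/-- the complex `P ⊗ F` for a module `F` -/
noncomputable abbrev TF (P : CochainComplex X.Modules ℤ) (F : X.Modules) :
    CochainComplex X.Modules ℤ :=
  ((DCoh.tensorRightMod F).mapHomologicalComplex (ComplexShape.up ℤ)).obj P

/-- the complex `K ⊗ N` for a module `N` over a ring -/
noncomputable abbrev TM {A : Type u} [CommRing A] (K : CochainComplex (ModuleCat.{u} A) ℤ)
    (N : ModuleCat.{u} A) : CochainComplex (ModuleCat.{u} A) ℤ :=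
  ((tensorRight N).mapHomologicalComplex (ComplexShape.up ℤ)).obj K

/-- `K ⊗ N` is functorial in `N` -/
noncomputable def TMCongr {A : Type u} [CommRing A] (K : CochainComplex (ModuleCat.{u} A) ℤ)
    {N N' : ModuleCat.{u} A} (e : N ≅ N') : TM K N ≅ TM K N' :=
  HomologicalComplex.Hom.isoOfComponents (fun n => whiskerLeftIso (K.X n) e)
    (fun i j _ => (whisker_exchange (K.d i j) e.hom))

/-- the stalk of `P ⊗ F` -/
noncomputable def stalkTFIso (x : X) (P : CochainComplex X.Modules ℤ) (F : X.Modules) :
    stalkCx X x (TF P F) ≅ TM (stalkCx X x P) ((stalkSh X x).obj F) :=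
  HomologicalComplex.Hom.isoOfComponents (fun n => stalkTensorIsoS X x (P.X n) F)
    (fun i j _ => (stalkTensorIsoS_naturality_left x (P.d i j) F).symm)

/-- **on `Spec R`, the vanishing of `H^i(P ⊗ F)` can be tested on the modules `F = N^~`** -/
theorem isZero_homology_TF_of_tilde (R : CommRingCat.{u})
    (P : CochainComplex (Spec (CommRingCat.of R)).Modules ℤ) (i : ℤ)
    (h : ∀ N' : ModuleCat.{u} R, IsZero ((TF P ((tilde.functor R).obj N')).homology i))
    (F : (Spec (CommRingCat.of R)).Modules) : IsZero ((TF P F).homology i) := by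
  apply isZero_of_stalks
  intro y
  refine IsZero.of_iso ?_
    (((TF P F).sc i).mapHomologyIso (stalkSh (Spec (CommRingCat.of R)) y)).symm
  let N := (stalkSh (Spec (CommRingCat.of R)) y).obj F
  let N' := (ModuleCat.restrictScalars (phi R y)).obj N
  let eN : (stalkSh (Spec (CommRingCat.of R)) y).obj ((tilde.functor R).obj N') ≅ N :=
    stalkTildeRestrictIso R y N
  let e2 : stalkCx (Spec (CommRingCat.of R)) y (TF P F) ≅
      stalkCx (Spec (CommRingCat.of R)) y (TF P ((tilde.functor R).obj N')) :=
    stalkTFIso y P F ≪≫ TMCongr _ eN.symm ≪≫ (stalkTFIso y P ((tilde.functor R).obj N')).symm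
  refine IsZero.of_iso ?_
    ((HomologicalComplex.homologyFunctor _ (ComplexShape.up ℤ) i).mapIso e2)
  exact IsZero.of_iso (Functor.map_isZero (stalkSh (Spec (CommRingCat.of R)) y) (h N'))
    (((TF P ((tilde.functor R).obj N')).sc i).mapHomologyIso
      (stalkSh (Spec (CommRingCat.of R)) y))

end Groth.Agent.Lib.Helper5.TorQC
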