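import Mathlib
import Groth.Prelude.Def_DCoh4
import Groth.Prelude.Def_DTor2
import Groth.Agent.Lib.Helper1.PushQc
import Groth.Agent.Lib.Helper5.TorQC.StalkTF
import Groth.Agent.Lib.Helper5.RestrTen.RestrTenS
import Groth.Agent.Lib.Helper5.QC.RpushBound
import Groth.Agent.Lib.Helper5.KFlatSite2.TorAmpIff
import Groth.Agent.Lib.Helper5.KFlatSite2.LTM

/-!
# Tor amplitude on a quasi-separated scheme can be tested on quasi-coherent modules (helper5)
-/

set_option autoImplicit false
universe u
open CategoryTheory CategoryTheory.Limits AlgebraicGeometry MonoidalCategory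

attribute [local instance] HasDerivedCategory.standard

namespace Groth.Agent.Lib.Helper5.TorQC

open Groth.Agent.Lib.Helper5.RestrTen Groth.Agent.Lib.Helper5.QC Groth.Agent.Helper1

variable {X : Scheme.{u}}

/-- `P ⊗ F` is functorial in `F` -/
noncomputable def TFCongr (P : CochainComplex X.Modules ℤ) {F F' : X.Modules} (e : F ≅ F') :
    TF P F ≅ TF P F' :=
  HomologicalComplex.Hom.isoOfComponents (fun n => (DCoh.tensorBi.obj (P.X n)).mapIso e)
    (fun i j _ => ((DCoh.tensorBi.map (P.d i j)).naturality e.hom))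

/-- restriction to an open commutes with `P ⊗ F` -/
noncomputable def resTFIso {Y : Scheme.{u}} (j : Y ⟶ X) [IsOpenImmersion j]
    (P : CochainComplex X.Modules ℤ) (F : X.Modules) :
    resCx j (TF P F) ≅ TF (resCx j P) ((Scheme.Modules.restrictFunctor j).obj F) :=
  HomologicalComplex.Hom.isoOfComponents (fun n => restrictTensorIso j (P.X n) F)
    (fun i j' _ => (restrictTensorIso_naturality_left j (P.d i j') F).symm)

/-- vanishing of a module can be tested on the affine charts -/
theorem isZero_of_restrict_fromSpec (M : X.Modules)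
    (h : ∀ V : X.affineOpens, IsZero ((Scheme.Modules.restrictFunctor V.2.fromSpec).obj M)) :
    IsZero M := by
  apply isZero_of_cover M (fun V : X.affineOpens => (V.1 : X.Opens)) (iSup_affineOpens_eq_top X)
  intro V
  haveI : IsAffine (V.1 : Scheme.{u}) := V.2
  let φ := V.2.isoSpec
  let e : Scheme.Modules.restrictFunctor φ.inv ⋙ Scheme.Modules.restrictFunctor φ.hom ≅
      𝟭 (V.1 : Scheme.{u}).Modules :=
    (Scheme.Modules.restrictFunctorComp φ.hom φ.inv).symm ≪≫
      Scheme.Modules.restrictFunctorCongr φ.hom_inv_id ≪≫ Scheme.Modules.restrictFunctorId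
  have e1 : (Scheme.Modules.restrictFunctor V.2.fromSpec).obj M ≅
      (Scheme.Modules.restrictFunctor φ.inv).obj (M.restrict V.1.ι) :=
    (Scheme.Modules.restrictFunctorComp φ.inv V.1.ι).app M
  have h1 : IsZero ((Scheme.Modules.restrictFunctor φ.inv).obj (M.restrict V.1.ι)) :=
    IsZero.of_iso (h V) e1.symm
  exact IsZero.of_iso (Functor.map_isZero (Scheme.Modules.restrictFunctor φ.hom) h1)
    (e.app (M.restrict V.1.ι)).symm

/-- **on a quasi-separated scheme, the vanishing of `H^i(P ⊗ F)` for all `F` can be tested on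
quasi-coherent `F`** -/
theorem isZero_homology_TF_of_qcoh [QuasiSeparatedSpace X] (P : CochainComplex X.Modules ℤ) (i : ℤ)
    (h : ∀ G : X.Modules, G.IsQuasicoherent → IsZero ((TF P G).homology i)) (F : X.Modules) :
    IsZero ((TF P F).homology i) := by
  apply isZero_of_restrict_fromSpec
  intro V
  refine IsZero.of_iso ?_ ((restrictHomologyIso V.2.fromSpec (TF P F) i).symm ≪≫
    (HomologicalComplex.homologyFunctor _ (ComplexShape.up ℤ) i).mapIso
      (resTFIso V.2.fromSpec P F))
  apply isZero_homology_TF_of_tilde Γ(X, V.1)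
  intro N'
  let G : X.Modules := (Scheme.Modules.pushforward V.2.fromSpec).obj ((tilde.functor Γ(X, V.1)).obj N')
  haveI : QuasiCompact V.2.fromSpec := inferInstance
  haveI : QuasiSeparated V.2.fromSpec := inferInstance
  have h1 : ((tilde.functor Γ(X, V.1)).obj N').IsQuasicoherent := inferInstance
  have hG : G.IsQuasicoherent :=
    @PushQc.isQuasicoherent_pushforward _ _ V.2.fromSpec ((tilde.functor Γ(X, V.1)).obj N') _ _ h1
  let eG : (Scheme.Modules.restrictFunctor V.2.fromSpec).obj G ≅ (tilde.functor Γ(X, V.1)).obj N' :=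
    (Scheme.Modules.restrictFunctorAdjCounitIso V.2.fromSpec).app _
  refine IsZero.of_iso ?_
    ((HomologicalComplex.homologyFunctor _ (ComplexShape.up ℤ) i).mapIso
      (TFCongr (resCx V.2.fromSpec P) eG.symm ≪≫ (resTFIso V.2.fromSpec P G).symm) ≪≫
      restrictHomologyIso V.2.fromSpec (TF P G) i)
  exact Functor.map_isZero (Scheme.Modules.restrictFunctor V.2.fromSpec) (h G hG)

end Groth.Agent.Lib.Helper5.TorQC
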